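import Cfsg.Agent.Signalizer.Generation
import Cfsg.Agent.Cores.Fitting
import Cfsg.Agent.TwoGroups.Recognition

/-!
# The Thompson dihedral lemma

An elementary abelian 2-group acting faithfully on a solvable group of odd order acts faithfully on
some invariant abelian subgroup, where it is diagonalisable.
-/

set_option autoImplicit false

namespace Cfsg.Agent.Signalizer.ThompsonDihedral

open Subgroup
open Cfsg.Agent.Signalizer
open scoped Pointwise commutatorElement

variable {G : Type*} [Group G] [Finite G] {A L : Subgroup G}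

omit [Finite G] in
theorem centralizes_of_double_commutator {p : ℕ} [Fact p.Prime] (hA : IsPGroup p A)
    (hAL : A ≤ normalizer (L : Set G)) (hL : ¬ p ∣ Nat.card L) [Finite G]
    (h : ⁅⁅L, A⁆, A⁆ = ⊥) : A ≤ centralizer (L : Set G) := by
  rw [le_centralizer_iff, ← commutator_eq_bot_iff_le_centralizer,
    ← commutator_commutator_eq hA hAL hL, h]

theorem not_two_dvd_of_le {H : Subgroup G} (h : H ≤ L) (hodd : ¬ 2 ∣ Nat.card L) :
    ¬ 2 ∣ Nat.card H := not_dvd_card_of_le h hodd

theorem three_subgroup {a b c : Subgroup G} (h1 : ⁅⁅b, c⁆, a⁆ = ⊥) (h2 : ⁅⁅c, a⁆, b⁆ = ⊥) :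
    ⁅⁅a, b⁆, c⁆ = ⊥ := commutator_commutator_eq_bot_of_rotate h1 h2

/-- A faithful action on a solvable group of odd order is faithful on an invariant abelian
subgroup. -/
theorem exists_abelian (hs : Group.IsSolvable L) (hodd : ¬ 2 ∣ Nat.card L)
    (hA : Cfsg.IsElementaryAbelian 2 A) (hAL : A ≤ normalizer (L : Set G))
    (hf : A ⊓ centralizer (L : Set G) = ⊥) :
    ∃ M : Subgroup G, M ≤ L ∧ A ≤ normalizer (M : Set G) ∧ M ≤ centralizer (M : Set G) ∧
      A ⊓ centralizer (M : Set G) = ⊥ := by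
  haveI := hs
  haveI : Fact (Nat.Prime 2) := ⟨Nat.prime_two⟩
  set F := (Cfsg.fittingSubgroup L).map L.subtype with hF
  have hFL : F ≤ L := map_subtype_le _
  have hFnil : Group.IsNilpotent F := by
    haveI := Cores.fittingSubgroup_isNilpotent (G := L)
    exact Group.nilpotent_of_mulEquiv (Subgroup.equivMapOfInjective _ L.subtype L.subtype_injective)
  have hnorm : ∀ {U : Subgroup G}, U ≤ normalizer (L : Set G) → U ≤ normalizer (F : Set G) := by
    intro U hU u hu
    rw [mem_normalizer_iff_map_conj_eq]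
    let e : L ≃* L := ((MulAut.conj u).subgroupMap L).trans
      (MulEquiv.subgroupCongr (mem_normalizer_iff_map_conj_eq.1 (hU hu)))
    have he := Cores.map_fittingSubgroup_equiv e
    rw [hF, map_map]
    conv_rhs => rw [← he, map_map]
    rfl
  have hAF : A ≤ normalizer (F : Set G) := hnorm hAL
  have hLF : L ≤ normalizer (F : Set G) := hnorm Subgroup.le_normalizer
  have hCF : L ⊓ centralizer (F : Set G) ≤ F := by
    intro x hx
    refine ⟨⟨x, hx.1⟩, Cores.centralizer_fittingSubgroup_le (G := L) ?_, rfl⟩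
    rw [mem_centralizer_iff]
    intro y hy
    exact Subtype.ext (mem_centralizer_iff.1 hx.2 _ ⟨y, hy, rfl⟩)
  obtain ⟨M, ⟨hMF, hFM, hAM, hMc⟩, hmax⟩ := Set.Finite.exists_maximal
    (s := {M : Subgroup G | M ≤ F ∧ F ≤ normalizer (M : Set G) ∧ A ≤ normalizer (M : Set G) ∧
      M ≤ centralizer (M : Set G)}) (Set.toFinite _)
    ⟨⊥, bot_le, by rw [normalizer_eq_top (⊥ : Subgroup G)]; exact le_top,
      by rw [normalizer_eq_top (⊥ : Subgroup G)]; exact le_top, bot_le⟩
  set C := F ⊓ centralizer (M : Set G) with hC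
  have hMC : M ≤ C := le_inf hMF hMc
  have hconjA : ∀ a ∈ A, ∀ x ∈ C, a * x * a⁻¹ ∈ C := le_normalizer_iff.1
    (le_normalizer_inf hAF (le_normalizer_centralizer (le_normalizer_iff.1 hAM)))
  have hconjF : ∀ f ∈ F, ∀ x ∈ C, f * x * f⁻¹ ∈ C := le_normalizer_iff.1
    (le_normalizer_inf Subgroup.le_normalizer (le_normalizer_centralizer (le_normalizer_iff.1 hFM)))
  have hCM : C ≤ M := by
    by_contra hne
    obtain ⟨x₀, hx₀C, hx₀⟩ := SetLike.not_le_iff_exists.1 hne
    -- an element of `C` outside `M` central in `F` modulo `M`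
    obtain ⟨x₁, hx₁C, hx₁M, hx₁c⟩ : ∃ x ∈ C, x ∉ M ∧ ∀ f ∈ F, ⁅x, f⁆ ∈ M := by
      obtain ⟨n, hn⟩ := (Subgroup.isNilpotent_iff_lowerCentralSeries F).1 hFnil
      by_contra hno
      push Not at hno
      have : ∀ k, ∃ x ∈ C, x ∉ M ∧ x ∈ Subgroup.lowerCentralSeries F k := by
        intro k
        induction k with
        | zero => exact ⟨x₀, hx₀C, hx₀, hx₀C.1⟩
        | succ k ih =>
          obtain ⟨x, hxC, hxM, hxk⟩ := ih
          obtain ⟨f, hf, hxf⟩ := hno x hxC hxM
          refine ⟨⁅x, f⁆, ?_, hxf, commutator_mem_commutator hxk hf⟩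
          rw [commutatorElement_def, mul_assoc, mul_assoc, ← mul_assoc f]
          exact C.mul_mem hxC (hconjF f hf _ (C.inv_mem hxC))
      obtain ⟨x, _, hxM, hx⟩ := this n
      rw [hn, mem_bot] at hx
      exact hxM (hx ▸ M.one_mem)
    -- make it an eigenvector modulo `M`
    have heig : ∀ l : List G, (∀ a ∈ l, a ∈ A) → ∃ x ∈ C, x ∉ M ∧ (∀ f ∈ F, ⁅x, f⁆ ∈ M) ∧
        ∀ a ∈ l, a * x * a⁻¹ * x⁻¹ ∈ M ∨ a * x * a⁻¹ * x ∈ M := by
      intro l hl
      induction l with
      | nil => exact ⟨x₁, hx₁C, hx₁M, hx₁c, by simp⟩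
      | cons a l ih =>
        obtain ⟨x, hxC, hxM, hxc, hxl⟩ := ih fun b hb => hl b (List.mem_cons_of_mem _ hb)
        have haA := hl a List.mem_cons_self
        by_cases h1 : a * x * a⁻¹ * x⁻¹ ∈ M
        · exact ⟨x, hxC, hxM, hxc, by rintro b (_ | ⟨_, hb⟩); exacts [Or.inl h1, hxl b hb]⟩
        have ha2 : a * a = 1 := by rw [← pow_two]; exact hA.2 a haA
        refine ⟨a * x * a⁻¹ * x⁻¹, C.mul_mem (hconjA a haA x hxC) (C.inv_mem hxC), h1, ?_, ?_⟩
        · intro f hf
          have hx' : ∀ g ∈ F, ⁅a * x * a⁻¹, g⁆ ∈ M := by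
            intro g hg
            have h := le_normalizer_iff.1 hAM a haA _
              (hxc _ (le_normalizer_iff.1 hAF a⁻¹ (A.inv_mem haA) g hg))
            rwa [conjugate_commutatorElement, show a * (a⁻¹ * g * a⁻¹⁻¹) * a⁻¹ = g by group] at h
          have h2 : ⁅x⁻¹, f⁆ ∈ M := by
            rw [commutatorElement_inv_left, ← commutatorElement_inv x f]
            have := le_normalizer_iff.1 hFM x⁻¹ (F.inv_mem hxC.1) _ (M.inv_mem (hxc f hf))
            simpa using this
          rw [commutatorElement_mul_left_eq_conj_mul]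
          exact M.mul_mem (le_normalizer_iff.1 hFM _ (le_normalizer_iff.1 hAF a haA x hxC.1) _ h2)
            (hx' f hf)
        · have key : ∀ b ∈ A, (b * x * b⁻¹ * x⁻¹ ∈ M ∨ b * x * b⁻¹ * x ∈ M) ∨ b = a →
              b * (a * x * a⁻¹ * x⁻¹) * b⁻¹ * (a * x * a⁻¹ * x⁻¹)⁻¹ ∈ M ∨
              b * (a * x * a⁻¹ * x⁻¹) * b⁻¹ * (a * x * a⁻¹ * x⁻¹) ∈ M := by
            intro b hbA hb
            have hab : b * a = a * b := elemAb_comm hA hbA haA
            rcases hb with (hb | hb) | rfl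
            · left
              -- `b` fixes `x` modulo `M`
              set m := b * x * b⁻¹ * x⁻¹ with hm
              have hbx : b * x * b⁻¹ = m * x := by rw [hm]; group
              have hbax : b * (a * x * a⁻¹) * b⁻¹ = a * m * a⁻¹ * (a * x * a⁻¹) := by
                calc b * (a * x * a⁻¹) * b⁻¹ = (b * a) * x * (b * a)⁻¹ := by group
                  _ = a * (b * x * b⁻¹) * a⁻¹ := by rw [hab]; group
                  _ = _ := by rw [hbx]; group
              have e : b * (a * x * a⁻¹ * x⁻¹) * b⁻¹ * (a * x * a⁻¹ * x⁻¹)⁻¹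
                  = (a * m * a⁻¹) * ((a * x * a⁻¹ * x⁻¹) * m⁻¹ * (a * x * a⁻¹ * x⁻¹)⁻¹) := by
                calc b * (a * x * a⁻¹ * x⁻¹) * b⁻¹ * (a * x * a⁻¹ * x⁻¹)⁻¹
                    = (b * (a * x * a⁻¹) * b⁻¹) * (b * x * b⁻¹)⁻¹ * (a * x * a⁻¹ * x⁻¹)⁻¹ := by group
                  _ = _ := by rw [hbax, hbx]; group
              rw [e]
              exact M.mul_mem (le_normalizer_iff.1 hAM a haA m hb)
                (le_normalizer_iff.1 hFM _ (F.mul_mem (le_normalizer_iff.1 hAF a haA x hxC.1)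
                  (F.inv_mem hxC.1)) _ (M.inv_mem hb))
            · right
              -- `b` inverts `x` modulo `M`
              set m := b * x * b⁻¹ * x with hm
              have hbx : b * x * b⁻¹ = m * x⁻¹ := by rw [hm]; group
              have hbax : b * (a * x * a⁻¹) * b⁻¹ = a * m * a⁻¹ * (a * x⁻¹ * a⁻¹) := by
                calc b * (a * x * a⁻¹) * b⁻¹ = (b * a) * x * (b * a)⁻¹ := by group
                  _ = a * (b * x * b⁻¹) * a⁻¹ := by rw [hab]; group
                  _ = _ := by rw [hbx]; group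
              have hax : a * x * a⁻¹ ∈ F := le_normalizer_iff.1 hAF a haA x hxC.1
              have e : b * (a * x * a⁻¹ * x⁻¹) * b⁻¹ * (a * x * a⁻¹ * x⁻¹)
                  = (a * m * a⁻¹) * ((a * x * a⁻¹)⁻¹ *
                      ((x * m⁻¹ * x⁻¹) * ⁅x, a * x * a⁻¹⁆) * (a * x * a⁻¹)) := by
                calc b * (a * x * a⁻¹ * x⁻¹) * b⁻¹ * (a * x * a⁻¹ * x⁻¹)
                    = (b * (a * x * a⁻¹) * b⁻¹) * (b * x * b⁻¹)⁻¹ * (a * x * a⁻¹ * x⁻¹) := by group
                  _ = _ := by rw [hbax, hbx, commutatorElement_def]; group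
              rw [e]
              refine M.mul_mem (le_normalizer_iff.1 hAM a haA m hb) ?_
              have h := le_normalizer_iff.1 hFM _ (F.inv_mem hax) _
                (M.mul_mem (le_normalizer_iff.1 hFM x hxC.1 _ (M.inv_mem hb)) (hxc _ hax))
              simpa using h
            · right
              have e : b * (b * x * b⁻¹ * x⁻¹) * b⁻¹ * (b * x * b⁻¹ * x⁻¹) = 1 := by
                calc b * (b * x * b⁻¹ * x⁻¹) * b⁻¹ * (b * x * b⁻¹ * x⁻¹)
                    = (b * b) * x * (b * b)⁻¹ * x⁻¹ := by group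
                  _ = 1 := by rw [ha2]; group
              rw [e]; exact M.one_mem
          rintro b (_ | ⟨_, hb⟩)
          · exact key a haA (Or.inr rfl)
          · exact key b (hl b (List.mem_cons_of_mem _ hb)) (Or.inl (hxl b hb))
    obtain ⟨x, hxC, hxM, hxc, hxA⟩ := heig ((Set.toFinite (A : Set G)).toFinset.toList) (by simp)
    refine hxM ?_
    have hnew : M ⊔ zpowers x ≤ F ∧ F ≤ normalizer ((M ⊔ zpowers x : Subgroup G) : Set G) ∧
        A ≤ normalizer ((M ⊔ zpowers x : Subgroup G) : Set G) ∧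
        M ⊔ zpowers x ≤ centralizer ((M ⊔ zpowers x : Subgroup G) : Set G) := by
      have hx : x ∈ M ⊔ zpowers x := mem_sup_right (mem_zpowers x)
      have gen : ∀ g : G, g ∈ normalizer (M : Set G) → g * x * g⁻¹ ∈ M ⊔ zpowers x →
          g ∈ normalizer ((M ⊔ zpowers x : Subgroup G) : Set G) := by
        intro g hg hgx
        rw [mem_normalizer_iff_map_conj_eq]
        refine eq_of_le_of_card_ge ?_ (card_map_of_injective (MulAut.conj g).injective).ge
        rw [Subgroup.map_sup, mem_normalizer_iff_map_conj_eq.1 hg, MonoidHom.map_zpowers]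
        exact sup_le le_sup_left (zpowers_le.2 hgx)
      refine ⟨sup_le hMF (zpowers_le.2 hxC.1), fun f hf => gen f (hFM hf) ?_,
        fun a ha => gen a (hAM ha) ?_, sup_le (le_centralizer_iff.2 (sup_le hMc ?_))
          (le_centralizer_iff.2 (sup_le ?_ (le_centralizer_iff_isMulCommutative.2 inferInstance)))⟩
      · have : f * x * f⁻¹ = (⁅x, f⁆)⁻¹ * x := by
          simp [commutatorElement_def, mul_assoc]
        rw [this]
        exact mul_mem (mem_sup_left (M.inv_mem (hxc f hf))) hx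
      · rcases hxA a (by simpa using ha) with h | h
        · rw [show a * x * a⁻¹ = a * x * a⁻¹ * x⁻¹ * x by group]
          exact mul_mem (mem_sup_left h) hx
        · rw [show a * x * a⁻¹ = a * x * a⁻¹ * x * x⁻¹ by group]
          exact mul_mem (mem_sup_left h) (inv_mem hx)
      · exact zpowers_le.2 hxC.2
      · exact le_centralizer_iff.1 (zpowers_le.2 hxC.2)
    exact hmax hnew le_sup_left (mem_sup_right (mem_zpowers x))
  refine ⟨M, hMF.trans hFL, hAM, hMc, ?_⟩
  rw [eq_bot_iff]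
  intro a ha
  rw [← hf]
  refine ⟨ha.1, ?_⟩
  have hz : zpowers a ≤ A := zpowers_le.2 ha.1
  have hpz := (elemAb_isPGroup hA).to_le hz
  have h1 : zpowers a ≤ centralizer (F : Set G) := by
    refine centralizes_of_double_commutator hpz (hz.trans hAF) (not_dvd_card_of_le hFL hodd) ?_
    have hc1 : ⁅⁅zpowers a, M⁆, F⁆ = ⊥ := by
      rw [commutator_eq_bot_iff_le_centralizer.2 (zpowers_le.2 ha.2), commutator_bot_left]
    have hc2 : ⁅⁅M, F⁆, zpowers a⁆ = ⊥ := by
      rw [← le_bot_iff]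
      refine (commutator_mono (le_normalizer_iff_commutator_le_left.1 hFM) le_rfl).trans ?_
      rw [commutator_comm, commutator_eq_bot_iff_le_centralizer.2 (zpowers_le.2 ha.2)]
    have h3 : ⁅⁅F, zpowers a⁆, M⁆ = ⊥ := three_subgroup hc1 hc2
    have h4 : ⁅F, zpowers a⁆ ≤ M :=
      le_trans (le_inf (commutator_le_self (hz.trans hAF))
        (commutator_eq_bot_iff_le_centralizer.1 h3)) hCM
    rw [← le_bot_iff]
    refine (commutator_mono h4 le_rfl).trans ?_
    rw [commutator_comm, commutator_eq_bot_iff_le_centralizer.2 (zpowers_le.2 ha.2)]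
  have h2 : zpowers a ≤ centralizer (L : Set G) := by
    refine centralizes_of_double_commutator hpz (hz.trans hAL) hodd ?_
    have hc1 : ⁅⁅zpowers a, F⁆, L⁆ = ⊥ := by
      rw [commutator_eq_bot_iff_le_centralizer.2 h1, commutator_bot_left]
    have hc2 : ⁅⁅F, L⁆, zpowers a⁆ = ⊥ := by
      rw [← le_bot_iff]
      refine (commutator_mono (le_normalizer_iff_commutator_le_left.1 hLF) le_rfl).trans ?_
      rw [commutator_comm, commutator_eq_bot_iff_le_centralizer.2 h1]
    have h3 : ⁅⁅L, zpowers a⁆, F⁆ = ⊥ := three_subgroup hc1 hc2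
    have h4 : ⁅L, zpowers a⁆ ≤ F :=
      le_trans (le_inf (commutator_le_self (hz.trans hAL))
        (commutator_eq_bot_iff_le_centralizer.1 h3)) hCF
    rw [← le_bot_iff]
    refine (commutator_mono h4 le_rfl).trans ?_
    rw [commutator_comm, commutator_eq_bot_iff_le_centralizer.2 h1]
  exact h2 (mem_zpowers a)

omit [Finite G] in
theorem mul_mem_of_not_mem {H : Subgroup G} (hA : Cfsg.IsElementaryAbelian 2 A)
    (hH : ∀ x ∈ A, ∀ y ∈ A, x ∉ H → y ∉ H → x * y ∈ H) :
    ∀ x ∈ A, ∀ y ∈ A, x ∉ H → y ∈ H → x * y ∉ H := fun x _ y _ hx hy h =>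
  hx (by simpa using H.mul_mem h (H.inv_mem hy))

/-- The family of eigenvectors and the dual basis. -/
theorem exists_dual (hodd : ¬ 2 ∣ Nat.card L) (hA : Cfsg.IsElementaryAbelian 2 A)
    (hAM : A ≤ normalizer (L : Set G)) (hab : L ≤ centralizer (L : Set G))
    (hf : A ⊓ centralizer (L : Set G) = ⊥) :
    ∃ (ι : Type) (_ : Fintype ι) (a l : ι → G),
      (∀ i, a i ∈ A ∧ a i ≠ 1 ∧ l i ∈ L ∧ l i ≠ 1 ∧ a i * l i * (a i)⁻¹ = (l i)⁻¹) ∧
      (∀ i j, i ≠ j → a i * l j * (a i)⁻¹ = l j) ∧ (∀ i j, Commute (l i) (l j)) ∧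
      2 ^ Fintype.card ι = Nat.card A ∧ closure (Set.range a) = A := by
  classical
  haveI : Fact (Nat.Prime 2) := ⟨Nat.prime_two⟩
  haveI := Fintype.ofFinite (Subgroup G)
  -- index two subgroups moving some element
  let Δ : Finset (Subgroup G) := Finset.univ.filter fun H =>
    H ≤ A ∧ H.relIndex A ≤ 2 ∧ ∃ l ∈ L, l ≠ 1 ∧ (∀ b ∈ H, b * l * b⁻¹ = l) ∧
      ∃ a ∈ A, a * l * a⁻¹ = l⁻¹
  have hΔ : ∀ b ∈ A, (∀ H ∈ Δ, b ∈ H) → b = 1 := by
    intro b hb hall
    rw [← mem_bot, ← hf]
    refine ⟨hb, ?_⟩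
    have hL : L ≤ centralizer {b} := le_of_forall_hyperplane hA hAM hodd fun H hH hi x hx => by
      rw [mem_centralizer_singleton_iff]
      have hbl : ∀ a ∈ A, (a * x * a⁻¹ * x⁻¹ ≠ 1) → H ∈ Δ := by
        intro a ha hne
        refine Finset.mem_filter.2 ⟨Finset.mem_univ _, hH, hi, a * x * a⁻¹ * x⁻¹,
          L.mul_mem (le_normalizer_iff.1 hAM a ha x hx.1) (L.inv_mem hx.1), hne,
          fun c hc => ?_, a, ha, ?_⟩
        · have hcx : c * x = x * c := mem_centralizer_iff.1 hx.2 c hc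
          have hca : c * a = a * c := elemAb_comm hA (hH hc) ha
          calc c * (a * x * a⁻¹ * x⁻¹) * c⁻¹
              = ((c * a) * x * (c * a)⁻¹) * (c * x * c⁻¹)⁻¹ := by group
            _ = (a * (c * x * c⁻¹) * a⁻¹) * (c * x * c⁻¹)⁻¹ := by rw [hca]; group
            _ = _ := by rw [hcx, mul_inv_cancel_right]
        · have ha2 : a * a = 1 := by rw [← pow_two]; exact hA.2 a ha
          have hcom : a * x * a⁻¹ * x⁻¹ = x⁻¹ * (a * x * a⁻¹) :=
            (mem_centralizer_iff.1 (hab (le_normalizer_iff.1 hAM a ha x hx.1)) _ (L.inv_mem hx.1)).symm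
          rw [hcom]
          calc a * (x⁻¹ * (a * x * a⁻¹)) * a⁻¹
              = (a * x * a⁻¹)⁻¹ * ((a * a) * x * (a * a)⁻¹) := by group
            _ = _ := by rw [ha2]; group
      by_cases hmov : b * x * b⁻¹ * x⁻¹ = 1
      · exact (mul_inv_eq_iff_eq_mul.1 (mul_inv_eq_one.1 hmov)).symm
      · exact absurd (by rw [mem_centralizer_iff.1 hx.2 b (hall H (hbl b hb hmov)), mul_inv_cancel_right,
            mul_inv_cancel]) hmov
    exact mem_centralizer_iff.2 fun y hy => mem_centralizer_singleton_iff.1 (hL hy)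
  obtain ⟨S, ⟨hSΔ, hS⟩, hmin⟩ := Set.Finite.exists_minimal
    (s := {S : Finset (Subgroup G) | S ⊆ Δ ∧ ∀ b ∈ A, (∀ H ∈ S, b ∈ H) → b = 1})
    (Set.toFinite _) ⟨Δ, subset_refl _, hΔ⟩
  have hS' : ∀ H ∈ S, ∃ a ∈ A, a ∉ H ∧ ∀ K ∈ S, K ≠ H → a ∈ K := by
    intro H hH
    by_contra hno
    push Not at hno
    have := hmin (y := S.erase H) ⟨(Finset.erase_subset _ _).trans hSΔ, fun b hb hall => by
      refine hS b hb fun K hK => ?_
      rcases eq_or_ne K H with rfl | hne
      · by_contra hbK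
        obtain ⟨K', hK', hne', hbK'⟩ := hno b hb hbK
        exact hbK' (hall K' (Finset.mem_erase.2 ⟨hne', hK'⟩))
      · exact hall K (Finset.mem_erase.2 ⟨hne, hK⟩)⟩ (Finset.erase_subset _ _)
    exact (Finset.mem_erase.1 (this hH)).1 rfl
  choose a haA haH haK using fun H : S => hS' H.1 H.2
  have hΔp : ∀ H : S, (H : Subgroup G) ≤ A ∧ ∃ l ∈ L, l ≠ 1 ∧
      (∀ b ∈ (H : Subgroup G), b * l * b⁻¹ = l) ∧ ∃ a ∈ A, a * l * a⁻¹ = l⁻¹ := fun H =>
    ⟨(Finset.mem_filter.1 (hSΔ H.2)).2.1, (Finset.mem_filter.1 (hSΔ H.2)).2.2.2⟩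
  choose hHA l hlL hl1 hlfix c hcA hcl using hΔp
  have htwo : ∀ (H : S) (x y : G), x ∈ A → y ∈ A → x ∉ (H : Subgroup G) → y ∉ (H : Subgroup G) →
      x * y ∈ (H : Subgroup G) := by
    intro H x y hx hy hx' hy'
    have hi : (H : Subgroup G).relIndex A ≤ 2 := (Finset.mem_filter.1 (hSΔ H.2)).2.2.1
    have hne : (H : Subgroup G).relIndex A ≠ 1 := fun h => hx' (relIndex_eq_one.1 h hx)
    have h0 : (H : Subgroup G).relIndex A ≠ 0 := index_ne_zero_of_finite
    have h2 : ((H : Subgroup G).subgroupOf A).index = 2 := by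
      show (H : Subgroup G).relIndex A = 2
      omega
    have := (Subgroup.mul_mem_iff_of_index_two h2 (a := ⟨x, hx⟩) (b := ⟨y, hy⟩)).2
      ⟨fun h => absurd (mem_subgroupOf.1 h) hx', fun h => absurd (mem_subgroupOf.1 h) hy'⟩
    exact mem_subgroupOf.1 this
  have hcmem : ∀ H : S, c H ∉ (H : Subgroup G) := by
    intro H hc
    have h2 : l H ^ 2 = 1 := by
      have h := (hlfix H _ hc).symm.trans (hcl H)
      rw [pow_two]; exact mul_eq_one_iff_eq_inv.2 h
    have hd : orderOf (⟨l H, hlL H⟩ : L) ∣ 2 :=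
      orderOf_dvd_of_pow_eq_one (Subtype.ext h2)
    rcases (Nat.dvd_prime Nat.prime_two).1 hd with h | h
    · exact hl1 H (congrArg Subtype.val (orderOf_eq_one_iff.1 h))
    · exact hodd (h ▸ orderOf_dvd_natCard _)
  have hinv : ∀ H : S, a H * l H * (a H)⁻¹ = (l H)⁻¹ := by
    intro H
    have hmem := htwo H _ _ (haA H) (A.inv_mem (hcA H)) (haH H)
      (fun h => hcmem H (by simpa using inv_mem h))
    calc a H * l H * (a H)⁻¹
        = (a H * (c H)⁻¹) * (c H * l H * (c H)⁻¹) * (a H * (c H)⁻¹)⁻¹ := by group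
      _ = ((a H * (c H)⁻¹) * l H * (a H * (c H)⁻¹)⁻¹)⁻¹ := by rw [hcl]; group
      _ = (l H)⁻¹ := by rw [hlfix H _ hmem]
  let f : (S → Bool) → A := fun ε =>
    ((Finset.univ : Finset S).toList.map fun H => if ε H then (⟨a H, haA H⟩ : A) else 1).prod
  have hmemf : ∀ (ε : S → Bool) (H : S), ((f ε : A) : G) ∈ (H : Subgroup G) ↔ ε H = false := by
    intro ε H
    have gen : ∀ L' : List S, L'.Nodup → ((((L'.map fun K => if ε K then (⟨a K, haA K⟩ : A) else 1).prod : A) : G)
        ∈ (H : Subgroup G) ↔ (H ∈ L' → ε H = false)) := by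
      intro L' hnd
      induction L' with
      | nil => simp
      | cons K L' ih =>
        rw [List.nodup_cons] at hnd
        have ih' := ih hnd.2
        rw [List.map_cons, List.prod_cons, Subgroup.coe_mul]
        by_cases hKH : K = H
        · subst hKH
          have hr : (((L'.map fun J => if ε J then (⟨a J, haA J⟩ : A) else 1).prod : A) : G)
              ∈ (K : Subgroup G) := ih'.2 fun h => absurd h hnd.1
          rw [Subgroup.mul_mem_cancel_right _ hr]
          by_cases he : ε K <;> simp [he, haH K]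
        · have hk : ((if ε K then (⟨a K, haA K⟩ : A) else 1 : A) : G) ∈ (H : Subgroup G) := by
            by_cases he : ε K
            · simpa [he] using haK K H H.2 fun h => hKH (Subtype.ext h).symm
            · simp [he]
          rw [Subgroup.mul_mem_cancel_left _ hk, ih']
          simp [Ne.symm hKH]
    exact (gen (Finset.univ : Finset S).toList (Finset.nodup_toList _)).trans
      ⟨fun h => h (Finset.mem_toList.2 (Finset.mem_univ H)), fun h _ => h⟩
  have hinj : Function.Injective f := by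
    intro ε δ h
    funext H
    have h1 := hmemf ε H
    rw [h, hmemf δ H] at h1
    cases hε : ε H <;> cases hδ : δ H <;> simp [hε, hδ] at h1 ⊢
  have hsurj : Function.Surjective f := by
    intro b
    refine ⟨fun H => decide ((b : G) ∉ (H : Subgroup G)), ?_⟩
    refine (inv_mul_eq_one.1 (Subtype.ext ?_))
    refine hS _ (SetLike.coe_mem _) fun K hK => ?_
    rw [Subgroup.coe_mul, Subgroup.coe_inv]
    by_cases hb : (b : G) ∈ K
    · refine mul_mem (inv_mem ((hmemf _ ⟨K, hK⟩).2 (by simpa using hb))) hb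
    · refine htwo ⟨K, hK⟩ _ _ (inv_mem (SetLike.coe_mem _)) b.2 (fun h => ?_) hb
      have := (hmemf _ ⟨K, hK⟩).1 (by simpa using inv_mem h)
      simp [hb] at this
  let e : Fin S.card ≃ S := S.equivFin.symm
  refine ⟨Fin S.card, inferInstance, fun i => a (e i), fun i => l (e i),
    fun i => ⟨haA _, fun h => haH (e i) (by
      have h' : a (e i) = 1 := h
      rw [h']; exact one_mem _), hlL _, hl1 _, hinv _⟩,
    fun i j hij => hlfix (e j) _ (haK (e i) (e j).1 (e j).2
      fun h => hij (e.injective (Subtype.ext h).symm)),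
    fun i j => mem_centralizer_iff.1 (hab (hlL (e j))) _ (hlL (e i)), ?_, ?_⟩
  · rw [← Nat.card_congr (Equiv.ofBijective f ⟨hinj, hsurj⟩)]
    simp
  · refine le_antisymm ((closure_le _).2 (by rintro _ ⟨i, rfl⟩; exact haA _)) fun b hb => ?_
    obtain ⟨ε, hε⟩ := hsurj ⟨b, hb⟩
    rw [show b = ((f ε : A) : G) by rw [hε]]
    simp only [f, Subgroup.val_list_prod, List.map_map]
    refine list_prod_mem fun g hg => ?_
    obtain ⟨H, _, rfl⟩ := List.mem_map.1 hg
    by_cases he : ε H
    · simp only [Function.comp, he, if_true]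
      exact subset_closure ⟨e.symm H, by simp⟩
    · simp [Function.comp, he]

theorem dihedral_lemma (hs : Group.IsSolvable L) (hodd : Odd (Nat.card L))
    (hA : Cfsg.IsElementaryAbelian 2 A) (d : ℕ) (hAd : Nat.card A = 2 ^ d)
    (hAL : A ≤ normalizer (L : Set G)) (hf : A ⊓ centralizer (L : Set G) = ⊥) :
    ∃ (Ai : Fin d → Subgroup G) (Li : Fin d → Subgroup G) (n : Fin d → ℕ),
      (∀ i, Ai i ≤ A ∧ Nat.card ↥(Ai i) = 2 ∧ Li i ≤ L ∧ Odd (n i) ∧ 3 ≤ n i ∧
        Nonempty (↥(Ai i ⊔ Li i) ≃* DihedralGroup (n i))) ∧ (⨆ i, Ai i) = A ∧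
      ∀ i j, i ≠ j → ∀ x ∈ Ai i ⊔ Li i, ∀ y ∈ Ai j ⊔ Li j, x * y = y * x := by
  have hodd' : ¬ 2 ∣ Nat.card L := fun h => Nat.not_even_iff_odd.2 hodd (even_iff_two_dvd.2 h)
  obtain ⟨M, hML, hAM, hMc, hMf⟩ := exists_abelian hs hodd' hA hAL hf
  obtain ⟨ι, hι, a, l, hal, hij, hll, hcard, hgen⟩ :=
    exists_dual (not_dvd_card_of_le hML hodd') hA hAM hMc hMf
  have hd : Fintype.card ι = d := Nat.pow_right_injective (le_refl 2) (hcard.trans hAd)
  let e : Fin d ≃ ι := (Fintype.equivFinOfCardEq hd).symm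
  refine ⟨fun i => zpowers (a (e i)), fun i => zpowers (l (e i)), fun i => orderOf (l (e i)),
    fun i => ?_, ?_, ?_⟩
  · obtain ⟨haA, ha1, hl, hl1, hinv⟩ := hal (e i)
    have ha2 : a (e i) * a (e i) = 1 := by rw [← pow_two]; exact hA.2 _ haA
    have hoL : orderOf (l (e i)) ∣ Nat.card L := by
      rw [← orderOf_mk (l (e i)) (hML hl)]; exact orderOf_dvd_natCard _
    have hno : Odd (orderOf (l (e i))) := hodd.of_dvd_nat hoL
    refine ⟨zpowers_le.2 haA, ?_, zpowers_le.2 (hML hl), hno, ?_, ?_⟩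
    · rw [Nat.card_zpowers]
      exact orderOf_eq_prime (hA.2 _ haA) ha1
    · rcases hno with ⟨k, hk⟩
      have : orderOf (l (e i)) ≠ 1 := fun h => hl1 (orderOf_eq_one_iff.1 h)
      show 3 ≤ orderOf (l (e i))
      omega
    · have hcl : zpowers (a (e i)) ⊔ zpowers (l (e i)) = closure {l (e i), a (e i)} := by
        rw [zpowers_eq_closure, zpowers_eq_closure, ← Subgroup.closure_union, Set.union_comm]
        rfl
      rw [hcl]
      refine TwoGroups.closure_equiv_dihedral rfl (fun h => ha1 ?_) ha2 hinv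
      have hd1 : orderOf (a (e i)) ∣ orderOf (l (e i)) := orderOf_dvd_of_mem_zpowers h
      rw [orderOf_eq_prime (hA.2 _ haA) ha1] at hd1
      exact absurd (even_iff_two_dvd.2 hd1) (Nat.not_even_iff_odd.2 hno)
  · refine le_antisymm (iSup_le fun i => zpowers_le.2 (hal _).1) ?_
    conv_lhs => rw [← hgen]
    rw [closure_le]
    rintro _ ⟨k, rfl⟩
    exact mem_iSup_of_mem (e.symm k) (by simp)
  · intro i j hne x hx y hy
    have hne' : e i ≠ e j := fun h => hne (e.injective h)
    have key : ∀ u v : G, u * v * u⁻¹ = v → v * u = u * v :=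
      fun u v h => (mul_inv_eq_iff_eq_mul.1 h).symm
    have : zpowers (a (e i)) ⊔ zpowers (l (e i))
        ≤ centralizer ((zpowers (a (e j)) ⊔ zpowers (l (e j)) : Subgroup G) : Set G) := by
      rw [centralizer_sup, centralizer_zpowers, centralizer_zpowers]
      refine sup_le (zpowers_le.2 (mem_inf.2 ⟨?_, ?_⟩)) (zpowers_le.2 (mem_inf.2 ⟨?_, ?_⟩)) <;>
        rw [mem_centralizer_singleton_iff]
      · exact elemAb_comm hA (hal _).1 (hal _).1
      · exact (key _ _ (hij _ _ hne')).symm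
      · exact key _ _ (hij _ _ hne'.symm)
      · exact hll _ _
    exact (mem_centralizer_iff.1 (this hx) y hy).symm

end Cfsg.Agent.Signalizer.ThompsonDihedral
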